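import Cfsg.Agent.Lib.Lie.UFive.Tables
import Cfsg.Agent.Lib.Lie.G2TwoUnitary.Main
import Cfsg.Agent.Lib.Classical.UnitaryOrders
import Cfsg.Agent.Lib.Local.FS.SimplePSU3

/-!
# Subgroups of small index in the special unitary group of dimension three over twenty-five elements
-/

set_option autoImplicit false
set_option linter.unusedSectionVars false
set_option maxRecDepth 100000

namespace Cfsg.Agent.Lie.UFive

open Matrix

/-- A finite set closed under right multiplication by generators absorbs the subgroup they generate. -/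
theorem right_closed {G : Type*} [Group G] [Finite G] (S T : Set G) (h1 : (1 : G) ∈ T)
    (h : ∀ t ∈ T, ∀ g ∈ S, t * g ∈ T) : ∀ x ∈ Subgroup.closure S, x ∈ T := by
  suffices hh : ∀ x ∈ Subgroup.closure S, ∀ t ∈ T, t * x ∈ T from fun x hx => by simpa using hh x hx 1 h1
  intro x hx
  induction hx using Subgroup.closure_induction with
  | mem g hg => exact fun t ht => h t ht g hg
  | one => exact fun t ht => by simpa using ht
  | mul x y _ _ hx hy => exact fun t ht => by simpa [mul_assoc] using hy _ (hx t ht)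
  | inv x _ hx =>
    intro t ht
    have hb : Function.Surjective fun s : T => (⟨s.1 * x, hx s.1 s.2⟩ : T) :=
      Finite.surjective_of_injective fun s s' e => Subtype.ext (mul_right_cancel (congrArg Subtype.val e))
    obtain ⟨s, hs⟩ := hb ⟨t, ht⟩
    have e : s.1 * x = t := congrArg Subtype.val hs
    rw [← e, mul_inv_cancel_right]
    exact s.2

theorem q_parent : ∀ e < 125, e ≠ 0 → ∃ p < e, look qATable 125 128 p = e ∨ look qBTable 125 128 p = e := by
  decide +kernel

theorem q_inner : ∀ e < 125,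
    (∃ j < 5, mulM (qM iA) (qM e) = mulM (mulM (qM e) (powM (qM iZ) j)) (qM iA)) ∧
    (∃ j < 5, mulM (qM iB) (qM e) = mulM (mulM (qM e) (powM (qM iZ) j)) (qM iB)) := by decide +kernel

theorem fifth_power : ∀ e < 125, ∃ k < 5, powM (qM e) 5 = powM (qM iZ) k := by decide +kernel

theorem one_code : cOne < 25 ^ 9 ∧ ∀ a < 3, ∀ b < 3, ent cOne a b = if a = b then 1 else 0 := by decide +kernel

theorem el_check : ∀ x < 25, ∀ y < 25,
    ((x % 5 + 4 * (y % 5)) * (x % 5 + 4 * (y % 5)) + 3 * ((y / 5 + 4 * (x / 5)) * (y / 5 + 4 * (x / 5)))) % 5 = 0 →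
      x = y := by decide +kernel

theorem small_units : ∀ n < 25, ∀ y < 25, n ≠ 0 → ml n y = 0 → y = 0 := by decide +kernel

theorem inv_units : ∀ n < 25, n ≠ 0 → ∃ m < 25, ml m n = 1 ∧ ml n m = 1 := by decide +kernel

theorem norm_units : ∀ m < 25, ∀ x < 25, ml m (ml x 1) = ml m x := by decide +kernel

theorem dig_lt (n b k : ℕ) (hb : 0 < b) : dig n b k < b := Nat.mod_lt _ hb

theorem ad_lt (x y : ℕ) : ad x y < 25 := by unfold ad; omega

theorem ml_lt (x y : ℕ) : ml x y < 25 := by unfold ml; omega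

theorem ent_mk9 (f : ℕ → ℕ → ℕ) (hf : ∀ a b, f a b < 25) {a b : ℕ} (ha : a < 3) (hb : b < 3) :
    ent (mk9 f) a b = f a b := by
  have h00 := hf 0 0; have h01 := hf 0 1; have h02 := hf 0 2
  have h10 := hf 1 0; have h11 := hf 1 1; have h12 := hf 1 2
  have h20 := hf 2 0; have h21 := hf 2 1; have h22 := hf 2 2
  interval_cases a <;> interval_cases b <;> simp only [ent, dig, mk9, Nat.reduceMul, Nat.reduceAdd, Nat.reducePow] <;>
    omega

variable {K : Type*} [Field K] [Fintype K] (hK : Fintype.card K = 25)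

include hK

theorem five_zero : (5 : K) = 0 := by
  have := FiniteField.cast_card_eq_zero K
  rw [hK] at this
  have e : (5 : K) * 5 = 0 := by rw [← this]; norm_num
  exact mul_self_eq_zero.mp e

theorem exists_root : ∃ r : K, r * r = 2 := by
  have h5 := five_zero hK
  have h2 : (2 : K) ≠ 0 := fun e => one_ne_zero (α := K) (by linear_combination h5 - 2 * e)
  have hc : ringChar K ≠ 2 := fun e => h2 (by
    have := ringChar.Nat.cast_ringChar (R := K)
    rw [e] at this
    exact_mod_cast this)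
  obtain ⟨r, hr⟩ := (FiniteField.isSquare_iff hc h2).mpr (by rw [hK]; norm_num; linear_combination 819 * h5)
  exact ⟨r, hr.symm⟩

theorem cast_five (n : ℕ) : ((n % 5 : ℕ) : K) = n := by
  conv_rhs => rw [← Nat.mod_add_div n 5]
  push_cast
  rw [five_zero hK, zero_mul, add_zero]

omit hK

/-- The element with a given code. -/
def el (r : K) (n : ℕ) : K := ((n % 5 : ℕ) : K) + ((n / 5 : ℕ) : K) * r

/-- The matrix with a given code. -/
def mat (r : K) (A : ℕ) : Matrix (Fin 3) (Fin 3) K := Matrix.of fun a b => el r (ent A a b)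

theorem el_zero (r : K) : el r 0 = 0 := by simp [el]

theorem el_one (r : K) : el r 1 = 1 := by simp [el]

variable {r : K} (hr : r * r = 2)

include hK

theorem el_mk (a b : ℕ) : el r (a % 5 + 5 * (b % 5)) = (a : K) + (b : K) * r := by
  rw [el, show (a % 5 + 5 * (b % 5)) % 5 = a % 5 by omega, show (a % 5 + 5 * (b % 5)) / 5 = b % 5 by omega,
    cast_five hK, cast_five hK]

theorem el_ad (x y : ℕ) : el r (ad x y) = el r x + el r y := by
  rw [ad, el_mk hK, el, el, cast_five hK, cast_five hK]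
  push_cast
  rw [cast_five hK, cast_five hK]
  ring

include hr

theorem el_ml (x y : ℕ) : el r (ml x y) = el r x * el r y := by
  rw [ml, el_mk hK, el, el]
  push_cast
  rw [cast_five hK, cast_five hK]
  linear_combination (-((x / 5 : ℕ) : K) * ((y / 5 : ℕ) : K)) * hr

theorem el_inj {x y : ℕ} (hx : x < 25) (hy : y < 25) (e : el r x = el r y) : x = y := by
  refine el_check x hx y hy ?_
  have h0 : (((x % 5 + 4 * (y % 5)) * (x % 5 + 4 * (y % 5)) +
      3 * ((y / 5 + 4 * (x / 5)) * (y / 5 + 4 * (x / 5))) : ℕ) : K) = 0 := by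
    rw [el, el] at e
    have h5 := five_zero hK
    generalize (x % 5 : ℕ) = a, (x / 5 : ℕ) = b, (y % 5 : ℕ) = c, (y / 5 : ℕ) = d at e ⊢
    push_cast at e ⊢
    have e1 : (a : K) + 4 * c = ((d : K) + 4 * b) * r := by linear_combination e + ((c : K) - b * r) * h5
    linear_combination ((a : K) + 4 * c + ((d : K) + 4 * b) * r) * e1 + (((d : K) + 4 * b) ^ 2) * hr +
      ((d : K) + 4 * b) ^ 2 * h5
  rw [← cast_five hK] at h0
  have hlt : ∀ n < 5, ((n : ℕ) : K) = 0 → n = 0 := by
    intro n hn e'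
    have h5 := five_zero hK
    interval_cases n
    · rfl
    · simp at e'
    · exfalso
      exact one_ne_zero (α := K) (by push_cast at e'; linear_combination h5 - 2 * e')
    · exfalso
      exact one_ne_zero (α := K) (by push_cast at e'; linear_combination 2 * e' - h5)
    · exfalso
      exact one_ne_zero (α := K) (by push_cast at e'; linear_combination h5 - e')
  exact hlt _ (Nat.mod_lt _ (by norm_num)) h0

theorem el_surj (z : K) : ∃ n < 25, el r n = z := by
  have hb : Function.Bijective fun n : Fin 25 => el r n :=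
    (Fintype.bijective_iff_injective_and_card _).mpr
      ⟨fun a b e => Fin.ext (el_inj hK hr a.isLt b.isLt e), by rw [Fintype.card_fin, hK]⟩
  obtain ⟨n, hn⟩ := hb.2 z
  exact ⟨n, n.isLt, hn⟩

theorem mat_one : mat r cOne = 1 := by
  ext a b
  rw [mat, Matrix.of_apply, one_code.2 a a.isLt b b.isLt, Matrix.one_apply]
  by_cases e : a = b
  · simp [e, el_one]
  · simp [e, Fin.val_ne_of_ne e, el_zero]

theorem mat_mul (A B : ℕ) : mat r (mulM A B) = mat r A * mat r B := by
  ext a b
  rw [Matrix.mul_apply, Fin.sum_univ_three]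
  simp only [mat, Matrix.of_apply]
  rw [mulM, ent_mk9 (mulEnt A B) (fun _ _ => ad_lt _ _) a.isLt b.isLt, mulEnt, el_ad hK, el_ad hK, el_ml hK hr, el_ml hK hr,
    el_ml hK hr]
  rfl

theorem mat_pow (A : ℕ) : ∀ n, mat r (powM A n) = mat r A ^ n
  | 0 => by rw [powM, mat_one hK hr, pow_zero]
  | n + 1 => by rw [powM, mat_mul hK hr, mat_pow A n, pow_succ]

theorem mat_scM (c A : ℕ) : mat r (scM c A) = el r c • mat r A := by
  ext a b
  simp only [mat, Matrix.of_apply, Matrix.smul_apply, smul_eq_mul]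
  rw [scM, ent_mk9 _ (fun _ _ => ml_lt _ _) a.isLt b.isLt, el_ml hK hr]

theorem mat_ne {A B : ℕ} (h : neM A B) : mat r A ≠ mat r B := by
  obtain ⟨k, hk, hne⟩ := h
  intro e
  have e' := congrFun (congrFun e ⟨k / 3, by omega⟩) ⟨k % 3, Nat.mod_lt _ (by norm_num)⟩
  simp only [mat, Matrix.of_apply] at e'
  have := el_inj hK hr (dig_lt _ _ _ (by norm_num)) (dig_lt _ _ _ (by norm_num)) e'
  rw [show 3 * (k / 3) + k % 3 = k by omega] at this
  exact hne this

variable {σ : K ≃+* K} (hσ : Cfsg.Agent.Classical.IsUSigma 5 σ)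

include hσ

theorem el_cj (x : ℕ) : el r (cj x) = σ (el r x) := by
  rw [cj, el_mk hK, el, map_add, map_mul, map_natCast, map_natCast, hσ.apply_eq r]
  push_cast
  rw [cast_five hK]
  linear_combination (-((x / 5 : ℕ) : K) * r * (r * r + 2)) * hr

omit hσ

local notation "SU5" => Cfsg.SU 3 K 5

omit hK hr in
/-- The matrix of a group element. -/
def Mg : SU5 →* Matrix (Fin 3) (Fin 3) K := (Cfsg.slToMat 3 K).comp (Cfsg.SU 3 K 5).subtype

omit hK hr in
theorem Mg_inj {g g' : SU5} (e : Mg g = Mg g') : g = g' := Subtype.ext (Subtype.ext e)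

/-- The element with a given code. -/
noncomputable def elt (r : K) (A : ℕ) : SU5 :=
  haveI : Decidable (∃ g : SU5, Mg g = mat r A) := Classical.dec _
  if h : ∃ g : SU5, Mg g = mat r A then h.choose else 1

include hσ

theorem elt_spec {A : ℕ} (hA : isUnitary A) : Mg (elt r A) = mat r A := by
  have hex : ∃ g : SU5, Mg g = mat r A := by
    obtain ⟨hg, hd⟩ := hA
    have hd' : (mat r A).det = 1 := by
      rw [Matrix.det_fin_three]
      have h4 : el r 4 = -1 := by
        simp [el]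
        linear_combination five_zero hK
      have := congrArg (el r) hd
      simp only [el_ad hK, el_ml hK hr, el_one, h4] at this
      simp only [mat, Matrix.of_apply, Fin.val_zero, Fin.val_one, Fin.val_two]
      linear_combination this
    have hgram : (mat r A)ᵀ * (mat r A).map σ = 1 := by
      ext a b
      have := congrArg (el r) (hg a a.isLt b b.isLt)
      simp only [el_ad hK, el_ml hK hr, el_cj hK hr hσ] at this
      rw [Matrix.mul_apply, Fin.sum_univ_three, Matrix.one_apply]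
      simp only [Matrix.transpose_apply, Matrix.map_apply, mat, Matrix.of_apply, Fin.val_zero, Fin.val_one,
        Fin.val_two]
      rw [this]
      by_cases e : a = b
      · simp [e, el_one]
      · simp [e, Fin.val_ne_of_ne e, el_zero]
    refine ⟨⟨⟨mat r A, hd'⟩, fun u v => ?_⟩, rfl⟩
    change Cfsg.hermForm 3 K 5 (mat r A *ᵥ u) (mat r A *ᵥ v) = _
    have e : ∀ x y : Fin 3 → K, Cfsg.hermForm 3 K 5 x y = x ⬝ᵥ (σ ∘ y) := fun x y => by
      simp [Cfsg.hermForm, dotProduct, hσ.apply_eq]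
    have h1 : σ ∘ (mat r A *ᵥ v) = (mat r A).map σ *ᵥ (σ ∘ v) :=
      funext fun k => RingHom.map_mulVec σ.toRingHom _ v k
    rw [e, e, h1, ← Matrix.vecMul_transpose, ← Matrix.dotProduct_mulVec, Matrix.mulVec_mulVec, hgram,
      Matrix.one_mulVec]
  rw [elt, dif_pos hex]
  exact hex.choose_spec

theorem spec_q {e : ℕ} (he : e < 125) : Mg (elt r (qM e)) = mat r (qM e) := elt_spec hK hr hσ (unitary_q e he)

theorem elt_zero : elt r (qM 0) = (1 : SU5) :=
  Mg_inj (by rw [spec_q hK hr hσ (by norm_num), q_check.1, mat_one hK hr, map_one])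

theorem elt_eq {A B C D : ℕ} {a b c d : SU5} (ha : Mg a = mat r A) (hb : Mg b = mat r B) (hc : Mg c = mat r C)
    (hd : Mg d = mat r D) (e : mulM A B = mulM C D) : a * b = c * d :=
  Mg_inj (by rw [map_mul, map_mul, ha, hb, hc, hd, ← mat_mul hK hr, ← mat_mul hK hr, e])

/-- The Sylow subgroup. -/
noncomputable def Qs (r : K) : Subgroup SU5 := Subgroup.closure {elt r (qM iA), elt r (qM iB)}

theorem q_mem : ∀ e, e < 125 → elt r (qM e) ∈ Qs r := by
  intro e
  induction e using Nat.strong_induction_on with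
  | _ e ih =>
    intro he
    by_cases h0 : e = 0
    · subst h0
      rw [elt_zero hK hr hσ]
      exact one_mem _
    obtain ⟨p, hp, hpe⟩ := q_parent e he h0
    obtain ⟨-, hia, hib, -⟩ := q_check
    have hp5 : p < 125 := by omega
    obtain ⟨-, -, ea, eb⟩ := q_closed p hp5
    rcases hpe with hpe | hpe
    · rw [hpe] at ea
      have : elt r (qM e) = elt r (qM p) * elt r (qM iA) := Mg_inj (by
        rw [map_mul, spec_q hK hr hσ he, spec_q hK hr hσ hp5, spec_q hK hr hσ hia, ← mat_mul hK hr, ea])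
      rw [this]
      exact mul_mem (ih p hp hp5) (Subgroup.subset_closure (Or.inl rfl))
    · rw [hpe] at eb
      have : elt r (qM e) = elt r (qM p) * elt r (qM iB) := Mg_inj (by
        rw [map_mul, spec_q hK hr hσ he, spec_q hK hr hσ hp5, spec_q hK hr hσ hib, ← mat_mul hK hr, eb])
      rw [this]
      exact mul_mem (ih p hp hp5) (Subgroup.subset_closure (Or.inr rfl))

theorem q_cases {x : SU5} (hx : x ∈ Qs r) : ∃ e < 125, x = elt r (qM e) := by
  refine right_closed {elt r (qM iA), elt r (qM iB)} {y | ∃ e < 125, y = elt r (qM e)} ⟨0, by norm_num, ?_⟩ ?_ x hx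
  · exact (elt_zero hK hr hσ).symm
  · rintro t ⟨e, he, rfl⟩ g hg
    obtain ⟨-, hia, hib, -⟩ := q_check
    obtain ⟨la, lb, ea, eb⟩ := q_closed e he
    rcases hg with rfl | rfl
    · exact ⟨_, la, Mg_inj (by
        rw [map_mul, spec_q hK hr hσ la, spec_q hK hr hσ he, spec_q hK hr hσ hia, ← mat_mul hK hr, ea])⟩
    · exact ⟨_, lb, Mg_inj (by
        rw [map_mul, spec_q hK hr hσ lb, spec_q hK hr hσ he, spec_q hK hr hσ hib, ← mat_mul hK hr, eb])⟩

/-- The coordinates of a point. -/
def pv (r : K) (a : Fin 126) : Fin 3 → K := fun k => el r (vec a k)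

theorem exists_point_action :
    ∃ π : SU5 →* Equiv.Perm (Fin 126), ∀ (g : SU5) (a b : Fin 126),
      (∃ c : K, Mg g *ᵥ pv r a = c • pv r b) ↔ π g a = b := by
  have hform : ∀ x : ℕ → ℕ, Cfsg.hermForm 3 K 5 (fun k => el r (x k)) (fun k => el r (x k)) =
      el r (formC (x 0) (x 1) (x 2)) := fun x => by
    rw [formC, el_ad hK, el_ad hK, el_ml hK hr, el_ml hK hr, el_ml hK hr, el_cj hK hr hσ, el_cj hK hr hσ,
      el_cj hK hr hσ, hσ.hermForm_eq]
    simp [Fin.sum_univ_three]
  have hne : ∀ a : Fin 126, pv r a ≠ 0 := fun a e => by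
    rcases (point_check a a.isLt).2 with ⟨h, -⟩ | ⟨-, h, -⟩
    · have := congrFun e 0
      rw [pv, Fin.val_zero, h, el_one] at this
      exact one_ne_zero this
    · have := congrFun e 1
      rw [pv, Fin.val_one, h, el_one] at this
      exact one_ne_zero this
  refine Cfsg.Agent.Lie.G2Two.exists_action Mg (pv r) hne (fun a b c e => ?_) fun g a => ?_
  · have hd : ∀ (a : Fin 126) k, vec a k < 25 := fun a k => dig_lt _ _ _ (by norm_num)
    have e0 := congrFun e 0
    have e1 := congrFun e 1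
    have e2 := congrFun e 2
    simp only [pv, Pi.smul_apply, smul_eq_mul, Fin.val_zero, Fin.val_one, Fin.val_two] at e0 e1 e2
    rcases (point_check a a.isLt).2 with ⟨ha, ha'⟩ | ⟨ha0, ha, ha'⟩ <;>
      rcases (point_check b b.isLt).2 with ⟨hb, hb'⟩ | ⟨hb0, hb, hb'⟩
    · rw [ha, hb, el_one, mul_one] at e0
      rw [← e0, one_mul] at e1 e2
      exact Fin.ext (by rw [← ha', ← hb', el_inj hK hr (hd a 1) (hd b 1) e1, el_inj hK hr (hd a 2) (hd b 2) e2])
    · rw [ha, hb0, el_one, el_zero, mul_zero] at e0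
      exact absurd e0 one_ne_zero
    · rw [ha0, hb, el_one, el_zero, mul_one] at e0
      exfalso
      exact hne a (by rw [e, ← e0, zero_smul])
    · rw [ha, hb, el_one, mul_one] at e1
      rw [← e1, one_mul] at e2
      exact Fin.ext (by rw [← ha', ← hb', el_inj hK hr (hd a 2) (hd b 2) e2])
  · obtain ⟨y, hy⟩ : ∃ y, y = Mg g *ᵥ pv r a := ⟨_, rfl⟩
    have hy0 : y ≠ 0 := fun e => hne a (by
      have h := congrArg (fun w => Mg g⁻¹ *ᵥ w) (hy.symm.trans e)
      simpa [Matrix.mulVec_mulVec, ← map_mul] using h)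
    have hiso : Cfsg.hermForm 3 K 5 y y = 0 := by
      rw [hy, show Cfsg.hermForm 3 K 5 (Mg g *ᵥ pv r a) (Mg g *ᵥ pv r a) = Cfsg.hermForm 3 K 5 (pv r a) (pv r a)
        from g.2 _ _]
      rw [show Cfsg.hermForm 3 K 5 (pv r a) (pv r a) = _ from hform (fun k => vec a k), (point_check a a.isLt).1,
        el_zero]
    rw [← hy]
    have hsc : ∀ c : K, c ≠ 0 → Cfsg.hermForm 3 K 5 (c • y) (c • y) = 0 := fun c _ => by
      have h : Cfsg.hermForm 3 K 5 (c • y) (c • y) = c * σ c * Cfsg.hermForm 3 K 5 y y := by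
        simp only [hσ.hermForm_eq, Fin.sum_univ_three, Pi.smul_apply, smul_eq_mul, map_mul]
        ring
      rw [h, hiso, mul_zero]
    have hcodes : ∀ u : Fin 3 → K, ∃ x : ℕ → ℕ, (∀ k, x k < 25) ∧ u = fun k : Fin 3 => el r (x k) := fun u => by
      choose n hn en using fun k => el_surj hK hr (u k)
      refine ⟨fun k => if k = 0 then n 0 else if k = 1 then n 1 else n 2, fun k => ?_, funext fun k => ?_⟩
      · dsimp only
        split_ifs <;> apply hn
      · fin_cases k <;> simp [en]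
    by_cases h0 : y 0 = 0
    · have h1 : y 1 ≠ 0 := fun h1 => hy0 (by
        have h2 : y 2 * σ (y 2) = 0 := by
          rw [hσ.hermForm_eq, Fin.sum_univ_three, h0, h1] at hiso
          simpa using hiso
        funext k
        fin_cases k
        exacts [h0, h1, (mul_eq_zero.mp h2).elim id fun h => σ.injective (h.trans (map_zero σ).symm)])
      obtain ⟨x, hx, hu⟩ := hcodes ((y 1)⁻¹ • y)
      have hf := hform x
      rw [← hu, hsc _ (inv_ne_zero h1)] at hf
      have hx0 : x 0 = 0 := el_inj hK hr (hx 0) (by norm_num) (by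
        rw [el_zero]; have := congrFun hu 0; simp [h0] at this; exact this.symm)
      have hx1 : x 1 = 1 := el_inj hK hr (hx 1) (by norm_num) (by
        rw [el_one]; have := congrFun hu 1; simp [h1] at this; exact this.symm)
      obtain ⟨hlt, c0, c1, c2⟩ := cover_two (x 2) (hx 2) (el_inj hK hr (ad_lt _ _) (by norm_num)
        (by rw [el_zero, hf, hx0, hx1]))
      refine ⟨⟨_, hlt⟩, y 1, ?_⟩
      have : y = y 1 • ((y 1)⁻¹ • y) := by rw [smul_smul, mul_inv_cancel₀ h1, one_smul]
      conv_lhs => rw [this]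
      rw [hu]
      congr 1
      funext k
      fin_cases k <;> simp [pv, c0, c1, c2, hx0, hx1]
    · obtain ⟨x, hx, hu⟩ := hcodes ((y 0)⁻¹ • y)
      have hf := hform x
      rw [← hu, hsc _ (inv_ne_zero h0)] at hf
      have hx0 : x 0 = 1 := el_inj hK hr (hx 0) (by norm_num) (by
        rw [el_one]; have := congrFun hu 0; simp [h0] at this; exact this.symm)
      obtain ⟨hlt, c0, c1, c2⟩ := cover_one (x 1) (hx 1) (x 2) (hx 2) (el_inj hK hr (ad_lt _ _) (by norm_num)
        (by rw [el_zero, hf, hx0]))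
      refine ⟨⟨_, hlt⟩, y 0, ?_⟩
      have : y = y 0 • ((y 0)⁻¹ • y) := by rw [smul_smul, mul_inv_cancel₀ h0, one_smul]
      conv_lhs => rw [this]
      rw [hu]
      congr 1
      funext k
      fin_cases k <;> simp [pv, c0, c1, c2, hx0]

theorem card_SU5 : Nat.card SU5 = 378000 := by
  have := Cfsg.Agent.Local.FS.PSU3Simple.card_SU3 hσ
  norm_num at this
  omega

theorem pow_eq {e : ℕ} (he : e < 125) (k : ℕ) : Mg (elt r (qM e) ^ k) = mat r (powM (qM e) k) := by
  rw [map_pow, spec_q hK hr hσ he, mat_pow hK hr]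

/-- Facts about the point action. -/
theorem structure_facts :
    Nat.card (Qs r) = 125 ∧
    (∀ x ∈ Qs r, elt r (qM iZ) * x = x * elt r (qM iZ)) ∧
    Nat.card (Subgroup.zpowers (elt r (qM iZ))) = 5 ∧
    (∀ x ∈ Qs r, elt r cT * x * (elt r cT)⁻¹ ∈ Qs r) ∧
    (∀ q ∈ Qs r, ∀ x ∈ Qs r, ∃ j, q * x * q⁻¹ = x * elt r (qM iZ) ^ j) ∧
    elt r cZi = elt r cW * elt r (qM iZ) * (elt r cW)⁻¹ ∧
    elt r cZ2 = elt r (qM iA) * elt r cZi * (elt r (qM iA))⁻¹ ∧
    ∃ π : SU5 →* Equiv.Perm (Fin 126),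
      (∀ e : ℕ, ∀ he : e < 125, π (elt r (qM e)) 0 = ⟨e, by omega⟩) ∧
      π (elt r cW) 125 = 0 ∧
      Nat.card ↥((MulAction.stabilizer (Equiv.Perm (Fin 126)) (125 : Fin 126)).comap π) = 3000 ∧
      (∀ g : SU5, π g 125 = 125 →
        g * elt r (qM iZ) * g⁻¹ ∈ Subgroup.zpowers (elt r (qM iZ))) ∧
      Subgroup.closure {elt r (qM iA), elt r (qM iB), elt r cT, elt r cW} = (⊤ : Subgroup SU5) := by
  obtain ⟨h0, hia, hib, hiz, hta, htb, hab, eza, ezb, hz5, hz1, eta, etb, etz, ezi, ez2⟩ := q_check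
  obtain ⟨uT, uW, uZi, uZ2, -, -⟩ := unitary_other
  obtain ⟨a, ha⟩ : ∃ a, a = elt r (qM iA) := ⟨_, rfl⟩
  obtain ⟨b, hb⟩ : ∃ b, b = elt r (qM iB) := ⟨_, rfl⟩
  obtain ⟨z, hz⟩ : ∃ z, z = elt r (qM iZ) := ⟨_, rfl⟩
  obtain ⟨t, ht⟩ : ∃ t, t = elt r cT := ⟨_, rfl⟩
  obtain ⟨w, hw⟩ : ∃ w, w = elt r cW := ⟨_, rfl⟩
  have sa := spec_q hK hr hσ hia
  have sb := spec_q hK hr hσ hib
  have sz := spec_q hK hr hσ hiz
  have st := elt_spec hK hr hσ uT
  have sw := elt_spec hK hr hσ uW
  rw [← ha] at sa ⊢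
  rw [← hb] at sb ⊢
  rw [← hz] at sz ⊢
  rw [← ht] at st ⊢
  rw [← hw] at sw ⊢
  have za : z * a = a * z := elt_eq hK hr hσ sz sa sa sz eza
  have zb : z * b = b * z := elt_eq hK hr hσ sz sb sb sz ezb
  have hQ : Qs r = Subgroup.closure {a, b} := by rw [Qs, ha, hb]
  have hzc : ∀ x ∈ Qs r, z * x = x * z := by
    have : Qs r ≤ Subgroup.centralizer {z} := by
      rw [hQ, Subgroup.closure_le]
      rintro x (rfl | rfl) <;> rw [SetLike.mem_coe, Subgroup.mem_centralizer_singleton_iff]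
      exacts [za.symm, zb.symm]
    exact fun x hx => (Subgroup.mem_centralizer_singleton_iff.mp (this hx)).symm
  have hord : orderOf z = 5 := by
    haveI : Fact (Nat.Prime 5) := ⟨by norm_num⟩
    refine orderOf_eq_prime (Mg_inj ?_) fun e => mat_ne hK hr hz1 ?_
    · rw [map_pow, sz, ← mat_pow hK hr, hz5, mat_one hK hr, map_one]
    · rw [← sz, e, map_one, mat_one hK hr]
  have htQ : ∀ x ∈ Qs r, t * x * t⁻¹ ∈ Qs r := by
    have e1 : t * a = elt r (qM tA) * t := elt_eq hK hr hσ st sa (spec_q hK hr hσ hta) st eta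
    have e2 : t * b = elt r (qM tB) * t := elt_eq hK hr hσ st sb (spec_q hK hr hσ htb) st etb
    have : (Qs r).map (MulAut.conj t).toMonoidHom ≤ Qs r := by
      conv_lhs => rw [hQ]
      rw [MonoidHom.map_closure, Subgroup.closure_le]
      rintro _ ⟨x, hx, rfl⟩
      simp only [MulEquiv.coe_toMonoidHom, MulAut.conj_apply, SetLike.mem_coe]
      rcases hx with rfl | rfl
      · rw [e1, mul_inv_cancel_right]; exact q_mem hK hr hσ _ hta
      · rw [e2, mul_inv_cancel_right]; exact q_mem hK hr hσ _ htb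
    exact fun x hx => this ⟨x, hx, rfl⟩
  have hinner : ∀ q ∈ Qs r, ∀ x ∈ Qs r, ∃ j, q * x * q⁻¹ = x * z ^ j := by
    intro q hq
    refine right_closed {a, b} {q : SU5 | ∀ x ∈ Qs r, ∃ j : ℕ, q * x * q⁻¹ = x * z ^ j} ?_ ?_ q (hQ ▸ hq)
    · exact fun x _ => ⟨0, by simp⟩
    · intro s hs g hg x hx
      obtain ⟨e, he, rfl⟩ := q_cases hK hr hσ hx
      have hgQ : g ∈ Qs r := hQ ▸ Subgroup.subset_closure hg
      have hj : ∃ j : ℕ, g * elt r (qM e) * g⁻¹ = elt r (qM e) * z ^ j := by
        obtain ⟨⟨j, -, ej⟩, ⟨j', -, ej'⟩⟩ := q_inner e he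
        rcases hg with rfl | rfl
        · refine ⟨j, mul_inv_eq_iff_eq_mul.mpr (Mg_inj ?_)⟩
          rw [map_mul, map_mul, map_mul, map_pow, sa, sz, spec_q hK hr hσ he, ← mat_pow hK hr, ← mat_mul hK hr,
            ← mat_mul hK hr, ← mat_mul hK hr, ej]
        · refine ⟨j', mul_inv_eq_iff_eq_mul.mpr (Mg_inj ?_)⟩
          rw [map_mul, map_mul, map_mul, map_pow, sb, sz, spec_q hK hr hσ he, ← mat_pow hK hr, ← mat_mul hK hr,
            ← mat_mul hK hr, ← mat_mul hK hr, ej']
      obtain ⟨j, hj⟩ := hj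
      have hzQ : z ∈ Qs r := hz ▸ q_mem hK hr hσ _ hiz
      obtain ⟨k, hk⟩ := hs _ (mul_mem (q_mem hK hr hσ _ he) (pow_mem hzQ j))
      refine ⟨j + k, ?_⟩
      calc s * g * elt r (qM e) * (s * g)⁻¹ = s * (g * elt r (qM e) * g⁻¹) * s⁻¹ := by group
        _ = elt r (qM e) * z ^ j * z ^ k := by rw [hj, hk]
        _ = _ := by rw [mul_assoc, ← pow_add]
  obtain ⟨π, hπ⟩ := exists_point_action hK hr hσ
  have hpt : ∀ e : ℕ, ∀ he : e < 125, π (elt r (qM e)) 0 = ⟨e, by omega⟩ := fun e he => (hπ _ _ _).mp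
    ⟨el r (look qScTable 125 25 e), funext fun k => by
      have h := congrArg (el r) (q_point e he k k.isLt)
      simp only [el_ad hK, el_ml hK hr] at h
      rw [spec_q hK hr hσ he, Matrix.mulVec, dotProduct, Fin.sum_univ_three]
      simpa [mat, pv] using h⟩
  have hfix : ∀ (g : SU5) (A : ℕ), Mg g = mat r A → (∃ c < 25, ∀ l < 3,
      ad (ad (ml (ent A l 0) (vec 125 0)) (ml (ent A l 1) (vec 125 1))) (ml (ent A l 2) (vec 125 2)) =
        ml c (vec 125 l)) → π g 125 = 125 := by
    rintro g A hg ⟨c, -, hc⟩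
    refine (hπ _ _ _).mp ⟨el r c, funext fun k => ?_⟩
    have h := congrArg (el r) (hc k k.isLt)
    simp only [el_ad hK, el_ml hK hr] at h
    rw [hg, Matrix.mulVec, dotProduct, Fin.sum_univ_three]
    simpa [mat, pv] using h
  obtain ⟨ft, fa, fb, -⟩ := fix_point 0 (by norm_num)
  have hwp : π w 125 = 0 := (hπ _ _ _).mp ⟨el r wSc, funext fun k => by
    have h := congrArg (el r) (fix_point k k.isLt).2.2.2
    simp only [el_ad hK, el_ml hK hr] at h
    rw [sw, Matrix.mulVec, dotProduct, Fin.sum_univ_three]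
    simpa [mat, pv] using h⟩
  have hcQ : Nat.card (Qs r) = 125 := by
    have hb : Function.Bijective fun e : Fin 125 => (⟨elt r (qM e), q_mem hK hr hσ _ e.isLt⟩ : Qs r) := by
      constructor
      · intro e e' h
        have h1 : π (elt r (qM e)) 0 = π (elt r (qM e')) 0 := by
          rw [show elt r (qM e) = elt r (qM e') from congrArg Subtype.val h]
        rw [hpt e e.isLt, hpt e' e'.isLt] at h1
        exact Fin.ext (congrArg Fin.val h1 : _)
      · rintro ⟨x, hx⟩
        obtain ⟨e, he, rfl⟩ := q_cases hK hr hσ hx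
        exact ⟨⟨e, he⟩, rfl⟩
    rw [← Nat.card_eq_of_bijective _ hb, Nat.card_fin]
  obtain ⟨B, hB⟩ : ∃ B : Subgroup SU5, B = Subgroup.closure {a, b, t} := ⟨_, rfl⟩
  have hQB : Qs r ≤ B := by rw [hQ, hB]; exact Subgroup.closure_mono (by grind)
  have htB : t ∈ B := hB ▸ Subgroup.subset_closure (by simp)
  have hordt : orderOf t = 24 := by
    refine orderOf_eq_of_pow_and_pow_div_prime (by norm_num) (Mg_inj ?_) ?_
    · rw [map_pow, st, ← mat_pow hK hr, torus_order.1, mat_one hK hr, map_one]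
    · intro p hp hd e
      have hp' : p = 2 ∨ p = 3 := by
        have hle := Nat.le_of_dvd (by norm_num) hd
        interval_cases p <;> simp at hd ⊢ <;> exact absurd hp (by norm_num)
      have e' := congrArg Mg e
      rw [map_pow, st, ← mat_pow hK hr, map_one, ← mat_one hK hr] at e'
      rcases hp' with rfl | rfl
      exacts [mat_ne hK hr torus_order.2.1 e', mat_ne hK hr torus_order.2.2 e']
  have hB3000 : 3000 ∣ Nat.card B := by
    refine Nat.Coprime.mul_dvd_of_dvd_of_dvd (show Nat.Coprime 125 24 by norm_num)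
      (hcQ ▸ Subgroup.card_dvd_of_le hQB) ?_
    rw [← hordt, ← Nat.card_zpowers]
    exact Subgroup.card_dvd_of_le (by rwa [Subgroup.zpowers_le])
  obtain ⟨S, hS⟩ : ∃ S : Subgroup SU5,
      S = (MulAction.stabilizer (Equiv.Perm (Fin 126)) (125 : Fin 126)).comap π := ⟨_, rfl⟩
  have memS : ∀ g : SU5, g ∈ S ↔ π g 125 = 125 := fun g => by rw [hS]; rfl
  have hBS : B ≤ S := by
    rw [hB, Subgroup.closure_le]
    rintro x (rfl | rfl | rfl) <;> rw [SetLike.mem_coe, memS]
    exacts [hfix _ _ sa fa, hfix _ _ sb fb, hfix _ _ st ft]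
  obtain ⟨T, hT⟩ : ∃ T : Subgroup SU5, T = Subgroup.closure {a, b, t, w} := ⟨_, rfl⟩
  rw [← hT]
  have hBT : B ≤ T := by rw [hB, hT]; exact Subgroup.closure_mono (by grind)
  have hwT : w ∈ T := hT ▸ Subgroup.subset_closure (by simp)
  letI : MulAction SU5 (Fin 126) := MulAction.compHom _ π
  have hst : S = MulAction.stabilizer SU5 (125 : Fin 126) := Subgroup.ext fun g => by rw [memS]; rfl
  have horb : ∀ p : Fin 126, p ∈ MulAction.orbit T (125 : Fin 126) := by
    intro p
    by_cases hp : (p : ℕ) = 125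
    · rw [show p = 125 from Fin.ext hp]
      exact MulAction.mem_orbit_self _
    · have hp' : (p : ℕ) < 125 := by omega
      refine ⟨⟨elt r (qM p) * w, mul_mem (hBT (hQB (q_mem hK hr hσ _ hp'))) hwT⟩, ?_⟩
      show π (elt r (qM p) * w) 125 = p
      rw [map_mul, Equiv.Perm.mul_apply, hwp, hpt p hp']
  have hsurj : MulAction.orbit SU5 (125 : Fin 126) = Set.univ := Set.eq_univ_of_forall fun p => by
    obtain ⟨⟨g, hgm⟩, hg⟩ := horb p
    exact ⟨g, hg⟩
  have hcS : Nat.card S = 3000 := by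
    have h1 := MulAction.index_stabilizer SU5 (125 : Fin 126)
    rw [hsurj, Set.ncard_univ, Nat.card_fin, ← hst] at h1
    have h2 := Subgroup.card_mul_index S
    rw [h1, card_SU5 hK hr hσ] at h2
    omega
  have hBeq : B = S := Subgroup.eq_of_le_of_card_ge hBS (hcS.trans_le (Nat.le_of_dvd Nat.card_pos hB3000))
  refine ⟨hcQ, hzc, (Nat.card_zpowers z).trans hord, htQ, hinner, ?_, ?_, π, hpt, hwp, (by rw [← hS]; exact hcS), fun g hg => ?_, ?_⟩
  · exact eq_mul_inv_iff_mul_eq.mpr (elt_eq hK hr hσ (elt_spec hK hr hσ uZi) sw sw sz ezi)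
  · exact eq_mul_inv_iff_mul_eq.mpr (elt_eq hK hr hσ (elt_spec hK hr hσ uZ2) sa sa (elt_spec hK hr hσ uZi) ez2)
  · have hgB : g ∈ Subgroup.closure {a, b, t} := hB ▸ hBeq ▸ (memS g).mpr hg
    refine right_closed {a, b, t} {g : SU5 | g * z * g⁻¹ ∈ Subgroup.zpowers z} ?_ ?_ g hgB
    · simpa using Subgroup.mem_zpowers z
    · intro s hs x hx
      show s * x * z * (s * x)⁻¹ ∈ Subgroup.zpowers z
      have hxz : x * z * x⁻¹ ∈ Subgroup.zpowers z := by
        rcases hx with rfl | rfl | rfl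
        · rw [← za, mul_inv_cancel_right]; exact Subgroup.mem_zpowers z
        · rw [← zb, mul_inv_cancel_right]; exact Subgroup.mem_zpowers z
        · have e : x * z = z ^ tzExp * x := Mg_inj (by
            rw [map_mul, map_mul, map_pow, st, sz, ← mat_pow hK hr, ← mat_mul hK hr, ← mat_mul hK hr, etz])
          rw [e, mul_inv_cancel_right]
          exact pow_mem (Subgroup.mem_zpowers z) _
      obtain ⟨k, hk⟩ := Subgroup.mem_zpowers_iff.mp hxz
      have : s * x * z * (s * x)⁻¹ = (s * z * s⁻¹) ^ k := by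
        rw [conj_zpow, hk]; group
      rw [this]
      exact zpow_mem hs k
  · refine Subgroup.eq_top_of_card_eq T ?_
    rw [card_SU5 hK hr hσ]
    refine le_antisymm (card_SU5 hK hr hσ ▸ Subgroup.card_le_card_group T) ?_
    have h1 := MulAction.index_stabilizer T (125 : Fin 126)
    rw [Set.eq_univ_of_forall horb, Set.ncard_univ, Nat.card_fin] at h1
    have h2 := Subgroup.card_mul_index (MulAction.stabilizer T (125 : Fin 126))
    rw [h1] at h2
    have h3 : 3000 ≤ Nat.card (MulAction.stabilizer T (125 : Fin 126)) := by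
      have : B.subgroupOf T ≤ MulAction.stabilizer T (125 : Fin 126) := fun g hg => (memS g).mp (hBS hg)
      refine le_trans ?_ (Subgroup.card_le_of_le this)
      rw [Nat.card_congr (Subgroup.subgroupOfEquivOfLe hBT).toEquiv]
      exact Nat.le_of_dvd Nat.card_pos hB3000
    omega

theorem eq_top_of_gens (L : Subgroup SU5) {i : ℕ} (hi : i < 7)
    (hg : ∀ n, ∃ g ∈ L, Mg g = mat r (gen i n)) : L = ⊤ := by
  obtain ⟨-, -, -, -, -, -, -, π, -, -, -, -, htop⟩ := structure_facts hK hr hσ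
  have hfold : ∀ (ws : List ℕ) (A : ℕ), (∃ g ∈ L, Mg g = mat r A) →
      ∃ g ∈ L, Mg g = mat r (ws.foldl (fun x n => mulM x (gen i n)) A) := by
    intro ws
    induction ws with
    | nil => exact fun A h => h
    | cons n ws ih =>
      rintro A ⟨g, hg1, hg2⟩
      obtain ⟨g', hg1', hg2'⟩ := hg n
      exact ih _ ⟨g * g', mul_mem hg1 hg1', by rw [map_mul, hg2, hg2', mat_mul hK hr]⟩
  obtain ⟨wa, wb, wt, ww⟩ := word_check i hi
  obtain ⟨-, hia, hib, -⟩ := q_check
  obtain ⟨uT, uW, -⟩ := unitary_other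
  have hmem : ∀ (ws : List ℕ) (A : ℕ), isUnitary A → evalW i ws = A → elt r A ∈ L := fun ws A hA e => by
    obtain ⟨g, hg1, hg2⟩ := hfold ws cOne ⟨1, one_mem L, by rw [map_one, mat_one hK hr]⟩
    rw [show elt r A = g from Mg_inj (by rw [elt_spec hK hr hσ hA, hg2, ← e, evalW])]
    exact hg1
  rw [eq_top_iff, ← htop, Subgroup.closure_le]
  rintro x (rfl | rfl | rfl | rfl)
  exacts [hmem _ _ (unitary_q _ hia) wa, hmem _ _ (unitary_q _ hib) wb, hmem _ _ uT wt, hmem _ _ uW ww]

/-- Subgroups of index less than fifty. -/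
theorem index_ge (L : Subgroup SU5) (hL : L ≠ ⊤) : 50 ≤ L.index := by
  by_contra hlt
  push Not at hlt
  obtain ⟨hcQ, hzc, hcz, htQ, hinner, ezi, ez2, π, hpt, hwp, hcS, hnorm, -⟩ := structure_facts hK hr hσ
  obtain ⟨-, hia, -, hiz, -⟩ := q_check
  obtain ⟨uT, uW, uZi, uZ2, -⟩ := unitary_other
  obtain ⟨z, hz⟩ : ∃ z, z = elt r (qM iZ) := ⟨_, rfl⟩
  rw [← hz] at hzc hcz hinner ezi hnorm
  have hzQ : z ∈ Qs r := hz ▸ q_mem hK hr hσ _ hiz
  haveI : Fact (Nat.Prime 5) := ⟨by norm_num⟩
  have hcard := Subgroup.card_mul_index L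
  rw [card_SU5 hK hr hσ] at hcard
  -- an element of the Sylow subgroup outside the centre
  have hsel : ∀ x ∈ Qs r, x ∉ Subgroup.zpowers z → ∃ e < 125, x = elt r (qM e) ∧ cls e < 6 ∧
      (∀ M : Subgroup SU5, x ∈ M → z ∈ M → elt r (qM (repIdx.getD (cls e) 0)) ∈ M) ∧
      (∀ m j : ℕ, elt r cT * x ≠ x ^ m * z ^ j * elt r cT) := by
    intro x hx hxz
    obtain ⟨e, he, rfl⟩ := q_cases hK hr hσ hx
    rcases class_check e he with ⟨h6, hrep, hne⟩ | ⟨-, h6⟩
    swap
    · exfalso
      refine hxz ?_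
      rw [show elt r (qM e) = z ^ (look zpTable 125 8 e) from Mg_inj (by
        rw [spec_q hK hr hσ he, h6, map_pow, hz, spec_q hK hr hσ hiz, mat_pow hK hr])]
      exact pow_mem (Subgroup.mem_zpowers z) _
    refine ⟨e, he, rfl, h6, fun M h1 h2 => ?_, fun m j e' => ?_⟩
    · have hri := rep_check (cls e) h6
      rw [show elt r (qM (repIdx.getD (cls e) 0)) = elt r (qM e) ^ (look clsTable 125 512 e / 8 % 8) *
          z ^ (look clsTable 125 512 e / 64) from Mg_inj (by
        rw [spec_q hK hr hσ hri, ← hrep, mat_mul hK hr, map_mul, pow_eq hK hr hσ he, hz, pow_eq hK hr hσ hiz])]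
      exact mul_mem (pow_mem h1 _) (pow_mem h2 _)
    · have hz5 : z ^ 5 = 1 := by
        have h := pow_orderOf_eq_one z
        rwa [← Nat.card_zpowers, hcz] at h
      have hx5 : elt r (qM e) ^ 125 = 1 := by
        have := pow_card_eq_one' (x := (⟨elt r (qM e), q_mem hK hr hσ _ he⟩ : Qs r))
        rw [hcQ] at this
        exact congrArg Subtype.val this
      have hxo : elt r (qM e) ^ 5 ∈ Subgroup.zpowers z := by
        have h' : ∀ e < 125, ∃ k < 5, powM (qM e) 5 = powM (qM iZ) k := fifth_power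
        obtain ⟨k, -, hk⟩ := h' e he
        rw [show elt r (qM e) ^ 5 = z ^ k from Mg_inj (by rw [pow_eq hK hr hσ he, hk, hz, pow_eq hK hr hσ hiz])]
        exact pow_mem (Subgroup.mem_zpowers z) _
      obtain ⟨k, hk⟩ := (Subgroup.mem_zpowers_iff.mp hxo)
      have hord5 : orderOf z = 5 := by rw [← Nat.card_zpowers, hcz]
      obtain ⟨k', hk'⟩ : ∃ k' : ℕ, elt r (qM e) ^ 5 = z ^ k' := by
        refine ⟨(k % 5).toNat, ?_⟩
        rw [← hk, ← zpow_natCast z, Int.toNat_of_nonneg (Int.emod_nonneg _ (by norm_num))]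
        have := zpow_mod_orderOf z k
        rw [hord5] at this
        exact this.symm
      refine mat_ne hK hr (hne (m % 5) (Nat.mod_lt _ (by norm_num)) ((j + k' * (m / 5)) % 5)
        (Nat.mod_lt _ (by norm_num))) ?_
      rw [mat_mul hK hr, mat_mul hK hr, mat_mul hK hr, ← elt_spec hK hr hσ uT, ← spec_q hK hr hσ he,
        mat_pow hK hr, mat_pow hK hr, ← spec_q hK hr hσ he, ← spec_q hK hr hσ hiz, ← hz, ← map_pow, ← map_pow,
        ← map_mul, ← map_mul, ← map_mul, e']
      congr 2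
      have hzj : z ^ ((j + k' * (m / 5)) % 5) = z ^ (j + k' * (m / 5)) := by
        conv_rhs => rw [← pow_mod_orderOf, hord5]
      rw [hzj]
      conv_lhs => rw [← Nat.mod_add_div m 5]
      rw [pow_add, pow_mul, hk', ← pow_mul, pow_add, mul_assoc, ← pow_add, ← pow_add, add_comm j]
  -- conjugates of the central element in the subgroup
  have hall : ∀ M : Subgroup SU5, M ≠ ⊤ → ∃ g : SU5, g * z * g⁻¹ ∉ M := by
    intro M hM
    by_contra hc
    push Not at hc
    refine hM (eq_top_of_gens hK hr hσ M (i := 6) (by norm_num) fun n => ?_)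
    rw [gen, if_pos rfl]
    split_ifs
    · exact ⟨z, by simpa using hc 1, by rw [hz, spec_q hK hr hσ hiz]⟩
    · exact ⟨elt r cZi, ezi ▸ hc _, elt_spec hK hr hσ uZi⟩
    · refine ⟨elt r cZ2, ?_, elt_spec hK hr hσ uZ2⟩
      rw [ez2, ezi, show ∀ u v : SU5, u * (v * z * v⁻¹) * u⁻¹ = u * v * z * (u * v)⁻¹ from fun u v => by group]
      exact hc _
  by_cases h25 : 25 ∣ Nat.card L
  · obtain ⟨A, hA⟩ := Sylow.exists_subgroup_card_pow_prime (G := L) 5 (n := 2) (by simpa using h25)
    obtain ⟨P, hP⟩ := (show IsPGroup 5 (A.map L.subtype) from IsPGroup.of_card (n := 2) (by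
      rw [Subgroup.card_map_of_injective L.subtype_injective, hA])).exists_le_sylow
    have hfac : (Nat.card SU5).factorization 5 = 3 := by
      rw [card_SU5 hK hr hσ, show (378000 : ℕ) = 5 ^ 3 * 3024 by norm_num,
        Nat.factorization_mul (by norm_num) (by norm_num), Finsupp.add_apply,
        Nat.Prime.factorization_pow (by norm_num), Finsupp.single_eq_same,
        Nat.factorization_eq_zero_of_not_dvd (by norm_num : ¬ 5 ∣ 3024)]
    obtain ⟨Q, hQ⟩ : ∃ Q : Sylow 5 SU5, (Q : Subgroup SU5) = Qs r :=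
      ⟨Sylow.ofCard (Qs r) (by rw [hfac, hcQ]; norm_num), rfl⟩
    obtain ⟨g, hg⟩ := MulAction.exists_smul_eq SU5 P Q
    obtain ⟨M, hMdef⟩ : ∃ M, M = L.map (MulAut.conj g).toMonoidHom := ⟨_, rfl⟩
    have hcM : Nat.card M = Nat.card L := by
      rw [hMdef, Subgroup.card_map_of_injective (MulAut.conj g).injective]
    have hMtop : M ≠ ⊤ := fun e => hL (Subgroup.eq_top_of_card_eq L (by rw [← hcM, e, Subgroup.card_top]))
    obtain ⟨A', hA'def⟩ : ∃ A', A' = (A.map L.subtype).map (MulAut.conj g).toMonoidHom := ⟨_, rfl⟩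
    have hcA : Nat.card A' = 25 := by
      rw [hA'def, Subgroup.card_map_of_injective (MulAut.conj g).injective,
        Subgroup.card_map_of_injective L.subtype_injective, hA]
      norm_num
    have hAQ : A' ≤ Qs r := by
      rw [hA'def, ← hQ, ← hg, Sylow.coe_subgroup_smul]
      exact Subgroup.map_mono hP
    have hAM : A' ≤ M := by
      rw [hA'def, hMdef]
      exact Subgroup.map_mono (Subgroup.map_subtype_le A)
    have hzA : z ∈ A' := by
      by_contra hzn
      haveI : IsMulCommutative A' := IsPGroup.isMulCommutative_of_card_eq_prime_sq (p := 5) (by rw [hcA]; norm_num)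
      obtain ⟨J, hJ⟩ : ∃ J, J = A' ⊔ Subgroup.zpowers z := ⟨_, rfl⟩
      have hJQ : J ≤ Qs r := hJ ▸ sup_le hAQ (Subgroup.zpowers_le.mpr hzQ)
      have hJ25 : 25 < Nat.card J := by
        refine hcA ▸ lt_of_le_of_ne (Subgroup.card_le_of_le (hJ ▸ le_sup_left)) fun e => hzn ?_
        have := Subgroup.eq_of_le_of_card_ge (hJ ▸ le_sup_left : A' ≤ J) e.ge
        rw [this, hJ]
        exact Subgroup.mem_sup_right (Subgroup.mem_zpowers z)
      have hJeq : J = Qs r := by
        refine Subgroup.eq_of_le_of_card_ge hJQ ?_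
        have hd : Nat.card J ∣ 5 ^ 3 := by
          have := Subgroup.card_dvd_of_le hJQ
          rw [hcQ] at this
          exact this
        obtain ⟨k, hk, hk'⟩ := (Nat.dvd_prime_pow (by norm_num)).mp hd
        rw [hcQ, hk']
        rw [hk'] at hJ25
        interval_cases k
        all_goals first | omega | norm_num at hJ25 ⊢
      obtain ⟨-, hia', hib', -, -, -, hab, -⟩ := q_check
      refine mat_ne hK hr hab ?_
      rw [mat_mul hK hr, mat_mul hK hr, ← spec_q hK hr hσ hia', ← spec_q hK hr hσ hib', ← map_mul, ← map_mul]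
      have hle : J ≤ Subgroup.centralizer (J : Set SU5) := by
        have e1 : J = Subgroup.closure ((A' : Set SU5) ∪ {z}) := by
          rw [hJ, Subgroup.closure_union, Subgroup.closure_eq, Subgroup.zpowers_eq_closure]
        rw [e1, Subgroup.centralizer_closure, Subgroup.closure_le]
        rintro x (hx | rfl) y (hy | rfl)
        · exact congrArg Subtype.val (mul_comm' (⟨y, hy⟩ : A') ⟨x, hx⟩)
        · exact hzc x (hAQ hx)
        · exact (hzc y (hAQ hy)).symm
        · rfl
      rw [hJeq] at hle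
      exact congrArg Mg ((Subgroup.mem_centralizer_iff.mp (hle (q_mem hK hr hσ _ hib'))) _ (q_mem hK hr hσ _ hia'))
    obtain ⟨x, hxA, hxz⟩ : ∃ x ∈ A', x ∉ Subgroup.zpowers z := by
      by_contra hc
      push Not at hc
      have := Subgroup.card_le_of_le (show A' ≤ Subgroup.zpowers z from hc)
      omega
    have hgt : ¬ M ≤ (MulAction.stabilizer (Equiv.Perm (Fin 126)) (125 : Fin 126)).comap π := fun h => by
      have h1 := Subgroup.card_le_of_le h
      rw [hcS, hcM] at h1
      have : Nat.card L * L.index ≤ 3000 * 49 := Nat.mul_le_mul h1 (by omega)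
      omega
    obtain ⟨h, hhM, hh⟩ : ∃ h ∈ M, π h 125 ≠ 125 := by
      by_contra hc
      push Not at hc
      exact hgt fun h hh => hc h hh
    obtain ⟨e, he, hev⟩ : ∃ e, e < 125 ∧ (π h 125 : ℕ) = e :=
      ⟨_, lt_of_le_of_ne (Nat.le_of_lt_succ (π h 125).isLt) fun e => hh (Fin.ext e), rfl⟩
    obtain ⟨q, hq⟩ : ∃ q, q = (elt r (qM e))⁻¹ := ⟨_, rfl⟩
    have hqQ : q ∈ Qs r := hq ▸ inv_mem (q_mem hK hr hσ _ he)
    have hqh : π (q * h) 125 = 0 := by
      rw [map_mul, Equiv.Perm.mul_apply, hq, map_inv, Equiv.Perm.inv_eq_iff_eq, hpt e he]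
      exact Fin.ext hev
    obtain ⟨b', hb'⟩ : ∃ b', b' = (elt r cW)⁻¹ * (q * h) := ⟨_, rfl⟩
    have hb'S : π b'⁻¹ 125 = 125 := by
      have h1 : π b' 125 = 125 := by
        rw [hb', map_mul, Equiv.Perm.mul_apply, hqh, map_inv, Equiv.Perm.inv_eq_iff_eq, hwp]
      rw [map_inv, Equiv.Perm.inv_eq_iff_eq, h1]
    obtain ⟨m, hm⟩ := Subgroup.mem_zpowers_iff.mp (hnorm _ hb'S)
    obtain ⟨M', hM'def⟩ : ∃ M', M' = M.map (MulAut.conj q).toMonoidHom := ⟨_, rfl⟩
    have hM'top : M' ≠ ⊤ := fun e => hMtop (Subgroup.map_injective (MulAut.conj q).injective (by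
      rw [← hM'def, e, Subgroup.map_top_of_surjective _ (MulAut.conj q).surjective]))
    have hzM : z ∈ M' := by
      rw [hM'def]
      exact ⟨z, hAM hzA, by simp [← hzc q hqQ]⟩
    have hziM : elt r cZi ∈ M' := by
      rw [hM'def, ezi]
      refine ⟨h * z ^ m * h⁻¹, mul_mem (mul_mem hhM (zpow_mem (hAM hzA) m)) (inv_mem hhM), ?_⟩
      simp only [MulEquiv.coe_toMonoidHom, MulAut.conj_apply]
      rw [hm, hb']
      group
    have hx'Q : q * x * q⁻¹ ∈ Qs r := mul_mem (mul_mem hqQ (hAQ hxA)) (inv_mem hqQ)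
    have hx'z : q * x * q⁻¹ ∉ Subgroup.zpowers z := fun hc => hxz (by
      obtain ⟨k, hk⟩ := Subgroup.mem_zpowers_iff.mp hc
      refine Subgroup.mem_zpowers_iff.mpr ⟨k, ?_⟩
      have : q⁻¹ * z ^ k * q = z ^ k := by
        rw [mul_assoc, (Commute.zpow_left (hzc q hqQ) k).eq, inv_mul_cancel_left]
      rw [← this, hk]
      group)
    obtain ⟨f, hf, -, hf6, hrep, -⟩ := hsel _ hx'Q hx'z
    refine hM'top (eq_top_of_gens hK hr hσ M' (i := cls f) (by omega) fun n => ?_)
    rw [gen, if_neg (by omega)]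
    split_ifs
    · exact ⟨_, hrep M' (hM'def ▸ ⟨x, hAM hxA, rfl⟩) hzM, spec_q hK hr hσ (rep_check _ hf6)⟩
    · exact ⟨_, hziM, elt_spec hK hr hσ uZi⟩
  · have hidx : L.index = 25 := by
      generalize Nat.card L = c at hcard h25
      generalize L.index = d at hcard hlt
      interval_cases d <;> omega
    have hrel := Subgroup.card_mul_index (L.subgroupOf (Qs r))
    rw [hcQ] at hrel
    have hcC : Nat.card (L.subgroupOf (Qs r)) = 5 := by
      have hle : (L.subgroupOf (Qs r)).index ≤ 25 := by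
        show L.relIndex (Qs r) ≤ 25
        have h := Subgroup.relIndex_le_of_le_right (H := L) (show Qs r ≤ ⊤ from le_top)
          (by rw [Subgroup.relIndex_top_right]; omega)
        rw [Subgroup.relIndex_top_right] at h
        omega
      obtain ⟨k, hk, hk'⟩ := (Nat.dvd_prime_pow (p := 5) (m := 3) (by norm_num)).mp
        ⟨_, (show (5 : ℕ) ^ 3 = 125 by norm_num).trans hrel.symm⟩
      have hdvd : Nat.card (L.subgroupOf (Qs r)) ∣ Nat.card L := by
        rw [← Subgroup.inf_subgroupOf_right,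
          Nat.card_congr (Subgroup.subgroupOfEquivOfLe (inf_le_right : L ⊓ Qs r ≤ Qs r)).toEquiv]
        exact Subgroup.card_dvd_of_le inf_le_left
      rw [hk'] at hdvd hrel ⊢
      interval_cases k
      · omega
      · norm_num
      · exact absurd hdvd (by simpa using h25)
      · exact absurd (Dvd.dvd.trans (by norm_num) hdvd) h25
    rw [hcC] at hrel
    have hcover : ∀ g : SU5, ∃ q ∈ Qs r, q⁻¹ * g ∈ L := by
      have h1 := MulAction.index_stabilizer (Qs r) ((1 : SU5) : SU5 ⧸ L)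
      rw [show MulAction.stabilizer (Qs r) ((1 : SU5) : SU5 ⧸ L) = L.subgroupOf (Qs r) from Subgroup.ext fun q => by
        rw [MulAction.mem_stabilizer_iff, Subgroup.mem_subgroupOf]
        show (((q : SU5) * 1 : SU5) : SU5 ⧸ L) = _ ↔ _
        rw [QuotientGroup.eq]
        simp] at h1
      have h2 : MulAction.orbit (Qs r) ((1 : SU5) : SU5 ⧸ L) = Set.univ := by
        rw [Set.eq_univ_iff_ncard, ← h1]
        change _ = L.index
        rw [hidx]
        omega
      intro g
      obtain ⟨q, hq⟩ := (Set.eq_univ_iff_forall.mp h2) (g : SU5 ⧸ L)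
      refine ⟨q, q.2, ?_⟩
      have : (((q : SU5) * 1 : SU5) : SU5 ⧸ L) = (g : SU5 ⧸ L) := hq
      rw [QuotientGroup.eq, mul_one] at this
      exact this
    by_cases hzL : z ∈ L
    · obtain ⟨g, hg⟩ := hall L hL
      obtain ⟨q, hq, hk⟩ := hcover g⁻¹
      refine hg ?_
      rw [show g * z * g⁻¹ = (q⁻¹ * g⁻¹)⁻¹ * (q⁻¹ * z * q) * (q⁻¹ * g⁻¹) by group,
        show q⁻¹ * z * q = z by rw [mul_assoc, hzc q hq, inv_mul_cancel_left]]
      exact mul_mem (mul_mem (inv_mem hk) hzL) hk
    · obtain ⟨C, hC⟩ : ∃ C, C = L ⊓ Qs r := ⟨_, rfl⟩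
      have hcC' : Nat.card C = 5 := by
        have h := hcC
        rw [← Subgroup.inf_subgroupOf_right,
          Nat.card_congr (Subgroup.subgroupOfEquivOfLe (inf_le_right : L ⊓ Qs r ≤ Qs r)).toEquiv] at h
        rw [hC]
        exact h
      obtain ⟨x, hx, hx1⟩ := C.bot_or_exists_ne_one.resolve_left fun e => by
        rw [e, Subgroup.card_bot] at hcC'
        omega
      have hgen : ∀ y ∈ C, ∀ u : SU5, u ∈ C → u ≠ 1 → ∃ m : ℕ, y = u ^ m := fun y hy u hu hu1 => by
        obtain ⟨m, hm⟩ := mem_powers_of_prime_card (G := C) (p := 5) (g := ⟨u, hu⟩) (g' := ⟨y, hy⟩) hcC'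
          (fun e => hu1 (congrArg Subtype.val e))
        exact ⟨m, (congrArg Subtype.val hm).symm⟩
      rw [hC, Subgroup.mem_inf] at hx
      have hxz : x ∉ Subgroup.zpowers z := fun hc => hzL (by
        have h1 : Subgroup.zpowers x = Subgroup.zpowers z := by
          refine Subgroup.eq_of_le_of_card_ge (Subgroup.zpowers_le.mpr hc) ?_
          have hd := Subgroup.card_dvd_of_le (Subgroup.zpowers_le.mpr hc)
          rw [hcz] at hd ⊢
          rcases (Nat.dvd_prime (by norm_num)).mp hd with h | h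
          · exact absurd (orderOf_eq_one_iff.mp (by rw [← Nat.card_zpowers, h])) hx1
          · exact h.ge
        exact (h1 ▸ Subgroup.zpowers_le.mpr hx.1) (Subgroup.mem_zpowers z))
      obtain ⟨q, hq, hk⟩ := hcover (elt r cT)
      obtain ⟨k, hkdef⟩ : ∃ k, k = q⁻¹ * elt r cT := ⟨_, rfl⟩
      have hmem : k * x * k⁻¹ ∈ C := by
        rw [hC]
        have hkL : k ∈ L := hkdef ▸ hk
        refine Subgroup.mem_inf.mpr ⟨mul_mem (mul_mem hkL hx.1) (inv_mem hkL), ?_⟩
        rw [hkdef, show q⁻¹ * elt r cT * x * (q⁻¹ * elt r cT)⁻¹ = q⁻¹ * (elt r cT * x * (elt r cT)⁻¹) * q by group]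
        exact mul_mem (mul_mem (inv_mem hq) (htQ x hx.2)) hq
      obtain ⟨m, hm⟩ := hgen _ hmem x (hC ▸ hx) hx1
      obtain ⟨j, hj⟩ := hinner q hq (x ^ m) (pow_mem hx.2 m)
      obtain ⟨-, -, -, -, -, hne⟩ := hsel x hx.2 hxz
      refine hne m j ?_
      have : elt r cT * x * (elt r cT)⁻¹ = x ^ m * z ^ j := by
        rw [← hj, ← hm, hkdef]
        group
      rw [← this, inv_mul_cancel_right]

end Cfsg.Agent.Lie.UFive
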