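import Cfsg.Agent.Lib.Lie.UFive.Main

/-!
# The subgroup of index fifty in the simple unitary group of dimension three over twenty-five elements
-/

set_option autoImplicit false
set_option linter.unusedSectionVars false
set_option maxRecDepth 100000

namespace Cfsg.Agent.Lie.UFive

open Matrix

theorem cube_check : ∀ n < 25, ml (ml n n) n = 1 → ∃ s < 3, omPow s = n := cube_root

theorem mk9_congr {f g : ℕ → ℕ → ℕ} (h : ∀ a < 3, ∀ b < 3, f a b = g a b) : mk9 f = mk9 g := by
  simp only [mk9, h _ (show 0 < 3 by norm_num) _ (show 0 < 3 by norm_num),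
    h _ (show 0 < 3 by norm_num) _ (show 1 < 3 by norm_num), h _ (show 0 < 3 by norm_num) _ (show 2 < 3 by norm_num),
    h _ (show 1 < 3 by norm_num) _ (show 0 < 3 by norm_num), h _ (show 1 < 3 by norm_num) _ (show 1 < 3 by norm_num),
    h _ (show 1 < 3 by norm_num) _ (show 2 < 3 by norm_num), h _ (show 2 < 3 by norm_num) _ (show 0 < 3 by norm_num),
    h _ (show 2 < 3 by norm_num) _ (show 1 < 3 by norm_num), h _ (show 2 < 3 by norm_num) _ (show 2 < 3 by norm_num)]

variable {K : Type*} [Field K] [Fintype K] (hK : Fintype.card K = 25) {r : K} (hr : r * r = 2)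
variable {σ : K ≃+* K} (hσ : Cfsg.Agent.Classical.IsUSigma 5 σ)

local notation "SU5" => Cfsg.SU 3 K 5

include hK hr hσ

theorem exists_omPow {c : K} (hc : c * c * c = 1) : ∃ s < 3, el r (omPow s) = c := by
  obtain ⟨n, hn, rfl⟩ := el_surj hK hr c
  rw [← el_ml hK hr, ← el_ml hK hr, ← el_one r] at hc
  obtain ⟨s, hs, e⟩ := cube_check n hn (el_inj hK hr (ml_lt _ _) (by norm_num) hc)
  exact ⟨s, hs, by rw [e]⟩

theorem omPow_cube {s : ℕ} (hs : s < 3) : el r (omPow s) * el r (omPow s) * el r (omPow s) = 1 := by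
  rw [← el_ml hK hr, ← el_ml hK hr, (om_root s hs).2.2, el_one]

theorem mat_inj_canon {j k : ℕ} (hj : j < 2520) (hk : k < 2520) {c : K} (hc : c * c * c = 1)
    (e : mat r (hM j) = c • mat r (hM k)) : hM k ≤ hM j := by
  obtain ⟨s, hs, rfl⟩ := exists_omPow hK hr hσ hc
  obtain ⟨-, -, -, hmin⟩ := h_sorted.2 k hk
  obtain ⟨-, -, hej, -⟩ := h_sorted.2 j hj
  refine (hmin s hs).trans (le_of_eq ?_)
  rw [← hej, scM]
  refine mk9_congr fun a ha b hb => ?_
  have := congrFun (congrFun e ⟨a, ha⟩) ⟨b, hb⟩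
  simp only [mat, Matrix.of_apply, Matrix.smul_apply, smul_eq_mul, ← el_ml hK hr] at this
  exact (el_inj hK hr (dig_lt _ _ _ (by norm_num)) (ml_lt _ _) this).symm

theorem hM_inj {j k : ℕ} (hj : j < 2520) (hk : k < 2520) {c : K} (hc : c * c * c = 1)
    (e : mat r (hM j) = c • mat r (hM k)) : j = k := by
  have hc0 : c ≠ 0 := fun h => by rw [h] at hc; simp at hc
  have hval : hM j = hM k := by
    refine le_antisymm ?_ (mat_inj_canon hK hr hσ hj hk hc e)
    refine mat_inj_canon hK hr hσ hk hj (c := c * c) ?_ ?_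
    · linear_combination (c * c * c + 1) * hc
    · rw [e, smul_smul, hc, one_smul]
  obtain ⟨rj, ej, -, -⟩ := h_sorted.2 j hj
  obtain ⟨rk, ek, -, -⟩ := h_sorted.2 k hk
  have hmono : ∀ d a : ℕ, a + d + 1 < 2520 →
      hM (look sortTable 40 4096 a) < hM (look sortTable 40 4096 (a + d + 1)) := fun d => by
    induction d with
    | zero => exact fun a ha => h_sorted.1 a (by omega)
    | succ d ih => exact fun a ha => (ih a (by omega)).trans (h_sorted.1 (a + d + 1) (by omega))
  rcases Nat.lt_trichotomy (look rankTable 40 4096 j) (look rankTable 40 4096 k) with h | h | h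
  · exfalso
    obtain ⟨d, hd⟩ := Nat.exists_eq_add_of_lt h
    have := hmono d _ (hd ▸ rk)
    rw [← hd, ej, ek, hval] at this
    exact lt_irrefl _ this
  · rw [← ej, ← ek, h]
  · exfalso
    obtain ⟨d, hd⟩ := Nat.exists_eq_add_of_lt h
    have := hmono d _ (hd ▸ rj)
    rw [← hd, ej, ek, hval] at this
    exact lt_irrefl _ this

theorem center_scalar {g : SU5} (hg : g ∈ Subgroup.center SU5) :
    ∃ c : K, c * c * c = 1 ∧ Mg g = c • (1 : Matrix (Fin 3) (Fin 3) K) := by
  obtain ⟨c, hc⟩ := Cfsg.Agent.Classical.UCount.scalar_of_commute hσ (n := 3) (by norm_num) (M := Mg g) fun x =>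
    congrArg (fun y : SU5 => y.1.1) (Subgroup.mem_center_iff.mp hg x)
  refine ⟨c, ?_, hc⟩
  have hd : (Mg g).det = 1 := g.1.2
  rw [hc, Matrix.det_smul, Matrix.det_one, mul_one, Fintype.card_fin] at hd
  linear_combination hd

theorem scalar_center {g : SU5} {c : K} (hc : Mg g = c • (1 : Matrix (Fin 3) (Fin 3) K)) :
    g ∈ Subgroup.center SU5 := by
  rw [Subgroup.mem_center_iff]
  intro x
  refine Mg_inj ?_
  rw [map_mul, map_mul, hc]
  simp

/-- The subgroup of index fifty. -/
theorem exists_index_fifty : ∃ H : Subgroup (Cfsg.PSU 3 K 5), H.index = 50 := by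
  obtain ⟨u, hu⟩ : ∃ u, u = elt r cU := ⟨_, rfl⟩
  obtain ⟨v, hv⟩ : ∃ v, v = elt r cV := ⟨_, rfl⟩
  obtain ⟨-, -, -, -, uU, uV⟩ := unitary_other
  have su : Mg u = mat r cU := hu ▸ elt_spec hK hr hσ uU
  have sv : Mg v = mat r cV := hv ▸ elt_spec hK hr hσ uV
  have hgen : ∀ n < 2, ∃ g ∈ ({u, v} : Set SU5), Mg g = mat r (if n = 0 then cU else cV) := fun n _ => by
    split_ifs
    exacts [⟨u, Or.inl rfl, su⟩, ⟨v, Or.inr rfl, sv⟩]
  have hstep : ∀ (g g' : SU5) (k n : ℕ), k < 2520 → n < 2 → (∃ c : K, c * c * c = 1 ∧ Mg g = c • mat r (hM k)) →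
      Mg g' = mat r (if n = 0 then cU else cV) →
      ∃ c : K, c * c * c = 1 ∧ Mg (g * g') = c • mat r (hM (hStep n k / 4)) := by
    rintro g g' k n hk hn ⟨c, hc, hg⟩ hg'
    obtain ⟨-, hs, e⟩ := h_closed k hk n hn
    refine ⟨c * el r (omPow (hStep n k % 4)), ?_, ?_⟩
    · linear_combination (el r (omPow (hStep n k % 4)) * el r (omPow (hStep n k % 4)) *
        el r (omPow (hStep n k % 4))) * hc + omPow_cube hK hr hσ hs
    · rw [map_mul, hg, hg', Matrix.smul_mul, ← mat_mul hK hr, e, mat_scM hK hr, smul_smul]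
  obtain ⟨L, hL⟩ : ∃ L : Subgroup SU5, L = Subgroup.closure {u, v} := ⟨_, rfl⟩
  have hex : ∀ k, k < 2520 → ∃ g ∈ L, ∃ c : K, c * c * c = 1 ∧ Mg g = c • mat r (hM k) := by
    intro k
    induction k using Nat.strong_induction_on with
    | _ k ih =>
      intro hk
      by_cases h0 : k = 0
      · subst h0
        obtain ⟨⟨hs, e⟩, -⟩ := h_parent
        refine ⟨1, one_mem L, el r (omPow hOne), omPow_cube hK hr hσ hs, ?_⟩
        rw [map_one, ← mat_scM hK hr, e, mat_one hK hr]
      obtain ⟨hp, e⟩ := h_parent.2 k hk h0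
      have hn : look parTable 40 8192 k % 2 < 2 := Nat.mod_lt _ (by norm_num)
      obtain ⟨g, hgL, hg⟩ := ih _ hp (by omega)
      obtain ⟨g', hg', hgm⟩ := hgen _ hn
      exact ⟨g * g', mul_mem hgL (hL ▸ Subgroup.subset_closure hg'), e ▸ hstep g g' _ _ (by omega) hn hg hgm⟩
  choose f hfL c hc hfM using hex
  obtain ⟨H, hH⟩ : ∃ H, H = L.map (QuotientGroup.mk' (Subgroup.center SU5)) := ⟨_, rfl⟩
  have hcard : Nat.card H = 2520 := by
    have hb : Function.Bijective fun k : Fin 2520 =>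
        (⟨QuotientGroup.mk' (Subgroup.center SU5) (f k k.isLt), hH ▸ ⟨_, hfL k k.isLt, rfl⟩⟩ : H) := by
      constructor
      · intro j k e
        have e' : (f j j.isLt)⁻¹ * f k k.isLt ∈ Subgroup.center SU5 :=
          QuotientGroup.eq.mp (congrArg Subtype.val e)
        obtain ⟨d, hd, hde⟩ := center_scalar hK hr hσ e'
        have h1 : Mg (f k k.isLt) = d • Mg (f j j.isLt) := by
          conv_lhs => rw [show f k k.isLt = f j j.isLt * ((f j j.isLt)⁻¹ * f k k.isLt) by group]
          rw [map_mul, hde, Matrix.mul_smul, Matrix.mul_one]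
        rw [hfM, hfM, smul_smul] at h1
        have hck := hc k k.isLt
        refine Fin.ext (hM_inj hK hr hσ k.isLt j.isLt (c := c k k.isLt * c k k.isLt * (d * c j j.isLt)) ?_ ?_).symm
        · linear_combination (c k k.isLt * c k k.isLt * c k k.isLt + 1) * (d * c j j.isLt) ^ 3 * hck +
            (c j j.isLt) ^ 3 * hd + hc j j.isLt
        · have h2 := congrArg (fun M => (c k k.isLt * c k k.isLt) • M) h1
          simp only [smul_smul, hck, one_smul] at h2
          exact h2
      · rintro ⟨h, hh⟩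
        rw [hH] at hh
        obtain ⟨g, hg, rfl⟩ := hh
        obtain ⟨k, hk, d, hd, hgk⟩ := right_closed {u, v}
          {g : SU5 | ∃ k < 2520, ∃ d : K, d * d * d = 1 ∧ Mg g = d • mat r (hM k)} (by
            obtain ⟨⟨hs, e⟩, -⟩ := h_parent
            exact ⟨0, by norm_num, el r (omPow hOne), omPow_cube hK hr hσ hs,
              by rw [map_one, ← mat_scM hK hr, e, mat_one hK hr]⟩) (by
            rintro g ⟨k, hk, hd⟩ g' (rfl | rfl)
            · exact ⟨_, (h_closed k hk 0 (by norm_num)).1, hstep g g' k 0 hk (by norm_num) hd su⟩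
            · exact ⟨_, (h_closed k hk 1 (by norm_num)).1, hstep g g' k 1 hk (by norm_num) hd sv⟩) g (hL ▸ hg)
        refine ⟨⟨k, hk⟩, Subtype.ext (QuotientGroup.eq.mpr (scalar_center hK hr hσ (c := c k hk * c k hk * d) ?_))⟩
        have h1 : Mg g = Mg (f k hk) * ((c k hk * c k hk * d) • (1 : Matrix (Fin 3) (Fin 3) K)) := by
          rw [Matrix.mul_smul, Matrix.mul_one, hfM k hk, smul_smul, hgk]
          congr 1
          linear_combination -d * hc k hk
        rw [map_mul, h1, ← mul_assoc, ← map_mul, inv_mul_cancel, map_one, one_mul]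
    rw [← Nat.card_eq_of_bijective _ hb, Nat.card_fin]
  have hG : Nat.card (Cfsg.PSU 3 K 5) = 126000 := by
    have h := Subgroup.card_eq_card_quotient_mul_card_subgroup (Subgroup.center SU5)
    rw [card_SU5 hK hr hσ, Cfsg.Agent.Classical.UCount.card_center_SU hσ (n := 3) (by norm_num)] at h
    norm_num at h
    show Nat.card (SU5 ⧸ Subgroup.center SU5) = _
    omega
  refine ⟨H, ?_⟩
  have h := Subgroup.card_mul_index H
  rw [hcard, hG] at h
  omega

end Cfsg.Agent.Lie.UFive
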